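import Groth.Agent.Gaga.H988.PnInst
import Groth.Agent.Gaga.H335.Chart
import Mathlib.Data.Fin.Tuple.Basic

/-!
# Affine charts of the complex points of `P^n_R`, `R = ℂ[y_1, …, y_N]`

`chart c i : H335.Chart (ProjSpace n R)`: the chart `z_i = 1`, of dimension `n + N`; every point lies in
one of them (`exists_chart`).
-/

set_option autoImplicit false
open CategoryTheory AlgebraicGeometry Topology TopologicalSpace Opposite Filter
open CohB1
open Groth.Agent.An.H863.PtsBasic Groth.Agent.An.H863.PtsCont
open Groth.Agent.Gaga.H988.PnPts Groth.Agent.Gaga.H988.PnPts2 Groth.Agent.Gaga.H988.PnCoord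
open Groth.Agent.Gaga.H988.PnHol
open Groth.Agent.Gaga.H990.ChartAt

noncomputable section

namespace Groth.Agent.Gaga.H988.PnChart

variable {n N : ℕ} {R : Type} [CommRing R] [Algebra ℂ R] (c : Coord N R)
  [(ProjSpace n R).Over An.SC] [StdOver n R]

/-- Affine coordinates to homogeneous coordinates with `z_i = 1`. -/
def inc (i : Fin (n + 1)) (v : Fin (n + N) → ℂ) : E n N :=
  (i.insertNth (1 : ℂ) (fun j => v (Fin.castAdd N j)), fun k => v (Fin.natAdd n k))

/-- Homogeneous coordinates to affine coordinates (not normalized). -/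
def out (i : Fin (n + 1)) (p : E n N) : Fin (n + N) → ℂ :=
  Fin.append (fun j => p.1 (i.succAbove j)) p.2

lemma inc_self (i : Fin (n + 1)) (v : Fin (n + N) → ℂ) : (inc i v : E n N).1 i = 1 := by
  simp [inc]

lemma out_inc (i : Fin (n + 1)) (v : Fin (n + N) → ℂ) : out i (inc i v) = v := by
  funext t
  refine Fin.addCases (fun j => ?_) (fun k => ?_) t
  · simp [out, inc]
  · simp [out, inc]

lemma inc_out (i : Fin (n + 1)) (p : E n N) (h : p.1 i = 1) : inc i (out i p) = p := by
  apply Prod.ext
  · funext j
    refine Fin.succAboveCases i ?_ (fun j => ?_) j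
    · simp [out, inc, h]
    · simp [out, inc]
  · funext k
    simp [out, inc]

lemma differentiable_inc (i : Fin (n + 1)) : Differentiable ℂ (inc i : (Fin (n + N) → ℂ) → E n N) := by
  refine Differentiable.prodMk ?_ ?_
  · rw [differentiable_pi]
    intro j
    refine Fin.succAboveCases i ?_ (fun j => ?_) j
    · simpa using differentiable_const (1 : ℂ)
    · simpa using differentiable_apply (𝕜 := ℂ) (F' := fun _ : Fin (n + N) => ℂ) (Fin.castAdd N j)
  · rw [differentiable_pi]
    intro k
    exact differentiable_apply (𝕜 := ℂ) (F' := fun _ : Fin (n + N) => ℂ) (Fin.natAdd n k)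

lemma differentiable_out (i : Fin (n + 1)) : Differentiable ℂ (out i : E n N → (Fin (n + N) → ℂ)) := by
  rw [differentiable_pi]
  intro t
  refine Fin.addCases (fun j => ?_) (fun k => ?_) t
  · simp only [out, Fin.append_left]
    exact (differentiable_apply (𝕜 := ℂ) (F' := fun _ : Fin (n + 1) => ℂ) (i.succAbove j)).comp
      differentiable_fst
  · simp only [out, Fin.append_right]
    exact (differentiable_apply (𝕜 := ℂ) (F' := fun _ : Fin N => ℂ) k).comp differentiable_snd

lemma inc_ne (i : Fin (n + 1)) (v : Fin (n + N) → ℂ) : (inc i v : E n N).1 i ≠ 0 := by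
  rw [inc_self]; exact one_ne_zero

/-- The chart map. -/
def cpt (i : Fin (n + 1)) (v : Fin (n + N) → ℂ) : An.Pts (ProjSpace n R) := pt c (inc i v)

lemma continuous_cpt (i : Fin (n + 1)) :
    Continuous (cpt c i : (Fin (n + N) → ℂ) → An.Pts (ProjSpace n R)) :=
  continuous_iff_continuousAt.2 fun v =>
    ContinuousAt.comp (g := pt c) (continuousAt_pt c (ne_zero_of (inc_ne i v)))
      (differentiable_inc i).continuous.continuousAt

lemma out_sig_cpt (i : Fin (n + 1)) (v : Fin (n + N) → ℂ) :
    out i (sig c i 1 (cpt c i v : An.Pts (ProjSpace n R))) = v := by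
  have h := sig_pt (R := R) c (p := inc i v) i (inc_ne i v)
  rw [inc_self] at h
  rw [cpt, h, out_inc]

lemma cpt_mem (i : Fin (n + 1)) (v : Fin (n + N) → ℂ) :
    (cpt c i v : An.Pts (ProjSpace n R)).pt ∈
      Dp (MvPolynomial.X i : MvPolynomial (Fin (n + 1)) R) :=
  (pt_mem_iff c (ne_zero_of (inc_ne i v)) i).2 (inc_ne i v)

lemma cpt_out_sig (i : Fin (n + 1)) (x : An.Pts (ProjSpace n R))
    (h : x.pt ∈ Dp (MvPolynomial.X i : MvPolynomial (Fin (n + 1)) R)) :
    cpt c i (out i (sig c i 1 x)) = x := by
  have h1 : (sig c i 1 x).1 i = 1 := by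
    obtain ⟨p, hp, rfl⟩ := exists_pt_chart c x i h 1 one_ne_zero
    have := sig_pt (R := R) c (p := p) i (by rw [hp]; exact one_ne_zero)
    rw [hp] at this
    rw [this, hp]
  rw [cpt, inc_out i _ h1, pt_sig c x i h 1 one_ne_zero]

lemma range_cpt (i : Fin (n + 1)) : Set.range (cpt c i : (Fin (n + N) → ℂ) → An.Pts (ProjSpace n R)) =
    {x | x.pt ∈ Dp (MvPolynomial.X i : MvPolynomial (Fin (n + 1)) R)} := by
  ext x
  constructor
  · rintro ⟨v, rfl⟩
    exact cpt_mem c i v
  · intro h
    exact ⟨_, cpt_out_sig c i x h⟩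

lemma isOpenEmbedding_cpt (i : Fin (n + 1)) :
    IsOpenEmbedding (cpt c i : (Fin (n + N) → ℂ) → An.Pts (ProjSpace n R)) := by
  refine IsOpenEmbedding.of_continuous_injective_isOpenMap (continuous_cpt c i) ?_ ?_
  · intro v w h
    have := congrArg (fun x => out i (sig c i 1 x)) h
    simpa only [out_sig_cpt] using this
  · intro V hV
    rw [isOpen_iff_mem_nhds]
    rintro _ ⟨v, hv, rfl⟩
    have h1 : ContinuousAt (fun x : An.Pts (ProjSpace n R) => out i (sig c i 1 x)) (cpt c i v) :=
      ContinuousAt.comp (g := out i) (differentiable_out i).continuous.continuousAt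
        (continuousAt_sig c _ i (cpt_mem c i v) 1)
    have h2 : V ∈ 𝓝 (out i (sig c i 1 (cpt c i v : An.Pts (ProjSpace n R)))) := by
      rw [out_sig_cpt]; exact hV.mem_nhds hv
    filter_upwards [h1.preimage_mem_nhds h2, (An.Pts.isOpen_preimage_pt
      (Dp (MvPolynomial.X i : MvPolynomial (Fin (n + 1)) R))).mem_nhds (cpt_mem c i v)] with x hx hx'
    exact ⟨_, hx, cpt_out_sig c i x hx'⟩

/-- normalization of homogeneous coordinates -/
def nrm (i : Fin (n + 1)) (p : E n N) : E n N := (fun j => p.1 j / p.1 i, p.2)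

lemma differentiableAt_nrm (i : Fin (n + 1)) {p : E n N} (hp : p.1 i ≠ 0) :
    DifferentiableAt ℂ (nrm i : E n N → E n N) p := by
  refine DifferentiableAt.prodMk ?_ differentiableAt_snd
  rw [differentiableAt_pi]
  intro j
  have h1 : ∀ j, DifferentiableAt ℂ (fun q : E n N => q.1 j) p := fun j =>
    DifferentiableAt.comp (g := fun z : Fin (n + 1) → ℂ => z j) (f := Prod.fst) p
      (differentiableAt_apply j _) differentiableAt_fst
  simp only [div_eq_mul_inv]
  exact (h1 j).fun_mul ((h1 i).fun_inv hp)

lemma pt_nrm (i : Fin (n + 1)) {p : E n N} (hp : p.1 i ≠ 0) :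
    (pt c (nrm i p) : An.Pts (ProjSpace n R)) = pt c p := by
  have h1 : (nrm i p).1 i ≠ 0 := by
    change p.1 i / p.1 i ≠ 0
    rw [div_self hp]; exact one_ne_zero
  rw [pt_eq_iff c _ _ (ne_zero_of h1) (ne_zero_of hp)]
  refine ⟨rfl, p.1 i, hp, ?_⟩
  funext j
  change p.1 j = p.1 i * (p.1 j / p.1 i)
  rw [mul_div_cancel₀ _ hp]

lemma cpt_out_nrm (i : Fin (n + 1)) {p : E n N} (hp : p.1 i ≠ 0) :
    (cpt c i (out i (nrm i p)) : An.Pts (ProjSpace n R)) = pt c p := by
  rw [cpt, inc_out i _ (div_self hp), pt_nrm c i hp]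

/-- The affine chart `z_i = 1`. -/
def chart (i : Fin (n + 1)) : Groth.Agent.Gaga.H335.Chart (ProjSpace n R) where
  n := n + N
  pt := cpt c i
  emb := isOpenEmbedding_cpt c i
  chartAt := by
    intro φ v
    rw [cpt, chartAt_iff c (ne_zero_of (inc_ne i v))]
    constructor
    · intro h
      filter_upwards [(differentiable_inc i).continuous.continuousAt.eventually h] with w hw
      exact DifferentiableAt.comp (g := fun q : E n N => φ (pt c q)) w hw (differentiable_inc i w)
    · intro h
      have hi := inc_ne (N := N) i v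
      have h1 : DifferentiableAt ℂ (fun p : E n N => out i (nrm i p)) (inc i v) :=
        DifferentiableAt.comp (g := out i) _ (differentiable_out i _) (differentiableAt_nrm i hi)
      have h2 : out i (nrm i (inc i v : E n N)) = v := by
        have : nrm i (inc i v : E n N) = inc i v := by
          apply Prod.ext
          · funext j
            change (inc i v : E n N).1 j / (inc i v : E n N).1 i = _
            rw [inc_self, div_one]
          · rfl
        rw [this, out_inc]
      have h3 : Tendsto (fun p : E n N => out i (nrm i p)) (𝓝 (inc i v)) (𝓝 v) := by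
        have := h1.continuousAt.tendsto
        rwa [h2] at this
      filter_upwards [h3.eventually h, eventually_ne hi] with p hp hpi
      have h4 : DifferentiableAt ℂ (fun p : E n N =>
          φ (cpt c i (out i (nrm i p)))) p :=
        DifferentiableAt.comp (g := fun w => φ (cpt c i w)) p hp
          (DifferentiableAt.comp (g := out i) _ (differentiable_out i _) (differentiableAt_nrm i hpi))
      refine h4.congr_of_eventuallyEq ?_
      filter_upwards [eventually_ne hpi] with q hq
      rw [cpt_out_nrm c i hq]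

lemma chart_pt (i : Fin (n + 1)) (v : Fin (n + N) → ℂ) :
    (chart c i : Groth.Agent.Gaga.H335.Chart (ProjSpace n R)).pt v = pt c (inc i v) := rfl

/-- Every complex point lies in an affine chart. -/
theorem exists_chart (x : An.Pts (ProjSpace n R)) :
    ∃ (i : Fin (n + 1)) (v : Fin (n + N) → ℂ),
      (chart c i : Groth.Agent.Gaga.H335.Chart (ProjSpace n R)).pt v = x := by
  obtain ⟨i, h⟩ := exists_mem_Dp x
  exact ⟨i, _, cpt_out_sig c i x h⟩

end Groth.Agent.Gaga.H988.PnChart
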